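import Cfsg.Agent.Lib.KnownSimple.MultC.Trie

/-!
# The table
-/

set_option autoImplicit false

namespace Cfsg.Agent.Lib.KnownSimple.MultM.U33

open Cfsg.Agent.Lib.KnownSimple.MultC

set_option maxRecDepth 1000000 in
/-- The table of the letters. -/
def tb : ZN := (.node 1 (.node 1 (.node 2 (.node 4 (.node 2 (.node 11 (.node 12 (.node 33 (.node 21 (.node 126 (.node 189 (.node 184 .nil .nil) .nil) (.node 258 .nil .nil)) (.node 46 (.node 84 (.node 285 .nil .nil) .nil) (.node 275 .nil .nil))) (.node 97 (.node 154 (.node 91 (.node 237 .nil .nil) .nil) (.node 162 .nil .nil)) (.node 190 (.node 102 .nil .nil) (.node 166 .nil .nil)))) (.node 9 (.node 81 (.node 138 (.node 67 (.node 272 .nil .nil) .nil) (.node 238 .nil .nil)) (.node 177 (.node 240 .nil .nil) (.node 155 .nil .nil))) (.node 27 (.node 44 (.node 78 (.node 270 .nil .nil) .nil) (.node 134 .nil .nil)) (.node 88 (.node 107 .nil .nil) (.node 280 .nil .nil))))) (.node 3 (.node 42 (.node 16 (.node 135 (.node 211 (.node 243 .nil .nil) .nil) (.node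 114 .nil .nil)) (.node 59 (.node 213 .nil .nil) (.node 157 .nil .nil))) (.node 101 (.node 147 (.node 83 (.node 223 .nil .nil) .nil) (.node 131 .nil .nil)) (.node 57 (.node 246 .nil .nil) (.node 259 .nil .nil)))) (.node 55 (.node 82 (.node 61 (.node 73 (.node 209 .nil .nil) .nil) (.node 123 .nil .nil)) (.node 183 (.node 192 .nil .nil) (.node 221 .nil .nil))) (.node 99 (.node 143 (.node 231 (.node 249 .nil .nil) .nil) (.node 273 .nil .nil)) (.node 203 (.node 150 .nil .nil) (.node 218 .nil .nil)))))) (.node 13 (.node 23 (.node 6 (.node 15 (.node 130 (.node 109 (.node 286 .nil .nil) .nil) (.node 112 .nil .nil)) (.node 47 (.node 236 .nil .nil) (.node 144 .nil .nil))) (.node 26 (.node 39 (.node 169 (.node 219 .nil .nil) .nil) (.node 267 .nil .nil)) (.node 194 (.node 103 .nil .nil) (.node 281 .nil .nil)))) (.node 10 (.node 85 (.node 139 (.node 176 (.node 245 .nil .nil) .nil) (.node 122 .nil .nil)) (.node 54 (.node 145 .nil .nil) (.node 174 .nil .nil))) (.node 115 (.node 164 (.node 94 (.node 241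 .nil .nil) .nil) (.node 266 .nil .nil)) (.node 60 (.node 108 .nil .nil) (.node 283 .nil .nil))))) (.node 5 (.node 31 (.node 74 (.node 36 (.node 66 (.node 200 .nil .nil) .nil) (.node 117 .nil .nil)) (.node 51 (.node 136 .nil .nil) (.node 210 .nil .nil))) (.node 24 (.node 41 (.node 77 (.node 228 .nil .nil) .nil) (.node 163 .nil .nil)) (.node 197 (.node 252 .nil .nil) (.node 265 .nil .nil)))) (.node 50 (.node 92 (.node 149 (.node 222 (.node 216 .nil .nil) .nil) (.node 125 .nil .nil)) (.node 129 (.node 242 .nil .nil) (.node 271 .nil .nil))) (.node 75 (.node 168 (.node 227 (.node 287 .nil .nil) .nil) (.node 235 .nil .nil)) (.node 205 (.node 127 .nil .nil) (.node 182 .nil .nil))))))) (.node 1 (.node 0 (.node 20 (.node 35 (.node 68 (.node 30 (.node 76 (.node 284 .nil .nil) .nil) (.node 171 .nil .nil)) (.node 172 (.node 86 .nil .nil) (.node 142 .nil .nil))) (.node 22 (.node 156 (.node 225 (.node 263 .nil .nil) .nil) (.node 146 .nil .nil)) (.node 193 (.node 137 .nil .nil) (.node 167 .nil .nil))))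 (.node 53 (.node 18 (.node 34 (.node 165 (.node 206 .nil .nil) .nil) (.node 261 .nil .nil)) (.node 52 (.node 93 .nil .nil) (.node 278 .nil .nil))) (.node 38 (.node 119 (.node 202 (.node 247 .nil .nil) .nil) (.node 269 .nil .nil)) (.node 106 (.node 255 .nil .nil) (.node 250 .nil .nil))))) (.node 7 (.node 8 (.node 69 (.node 32 (.node 212 (.node 196 .nil .nil) .nil) (.node 260 .nil .nil)) (.node 70 (.node 89 .nil .nil) (.node 277 .nil .nil))) (.node 104 (.node 159 (.node 178 (.node 226 .nil .nil) .nil) (.node 132 .nil .nil)) (.node 124 (.node 244 .nil .nil) (.node 180 .nil .nil)))) (.node 14 (.node 87 (.node 128 (.node 90 (.node 282 .nil .nil) .nil) (.node 158 .nil .nil)) (.node 185 (.node 96 .nil .nil) (.node 161 .nil .nil))) (.node 121 (.node 45 (.node 80 (.node 256 .nil .nil) .nil) (.node 274 .nil .nil)) (.node 116 (.node 110 .nil .nil) (.node 181 .nil .nil)))))) (.node 17 (.node 25 (.node 40 (.node 72 (.node 133 (.node 65 (.node 191 .nil .nil) .nil) (.node 113 .nil .nil)) (.node 62 (.node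 207 .nil .nil) (.node 276 .nil .nil))) (.node 29 (.node 43 (.node 208 (.node 220 .nil .nil) .nil) (.node 229 .nil .nil)) (.node 195 (.node 148 .nil .nil) (.node 173 .nil .nil)))) (.node 49 (.node 19 (.node 37 (.node 71 (.node 217 .nil .nil) .nil) (.node 152 .nil .nil)) (.node 120 (.node 186 .nil .nil) (.node 262 .nil .nil))) (.node 118 (.node 140 (.node 79 (.node 268 .nil .nil) .nil) (.node 251 .nil .nil)) (.node 201 (.node 170 .nil .nil) (.node 248 .nil .nil))))) (.node 28 (.node 48 (.node 56 (.node 100 (.node 215 (.node 234 .nil .nil) .nil) (.node 254 .nil .nil)) (.node 175 (.node 239 .nil .nil) (.node 214 .nil .nil))) (.node 105 (.node 160 (.node 187 (.node 232 .nil .nil) .nil) (.node 230 .nil .nil)) (.node 58 (.node 253 .nil .nil) (.node 179 .nil .nil)))) (.node 64 (.node 95 (.node 151 (.node 224 (.node 279 .nil .nil) .nil) (.node 264 .nil .nil)) (.node 188 (.node 233 .nil .nil) (.node 199 .nil .nil))) (.node 98 (.node 153 (.node 204 (.node 257 .nil .nil) .nil) (.node 141 .nil .nil))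 (.node 63 (.node 111 .nil .nil) (.node 198 .nil .nil)))))))) (.node 5 (.node 0 (.node 13 (.node 19 (.node 6 (.node 67 (.node 121 (.node 65 (.node 237 .nil .nil) .nil) (.node 112 .nil .nil)) (.node 62 (.node 189 .nil .nil) (.node 187 .nil .nil))) (.node 45 (.node 39 (.node 194 (.node 277 .nil .nil) .nil) (.node 130 .nil .nil)) (.node 192 (.node 181 .nil .nil) (.node 221 .nil .nil)))) (.node 51 (.node 49 (.node 140 (.node 68 (.node 276 .nil .nil) .nil) (.node 148 .nil .nil)) (.node 179 (.node 241 .nil .nil) (.node 280 .nil .nil))) (.node 26 (.node 43 (.node 228 (.node 232 .nil .nil) .nil) (.node 271 .nil .nil)) (.node 101 (.node 219 .nil .nil) (.node 178 .nil .nil))))) (.node 7 (.node 44 (.node 75 (.node 136 (.node 66 (.node 198 .nil .nil) .nil) (.node 220 .nil .nil)) (.node 90 (.node 111 .nil .nil) (.node 152 .nil .nil))) (.node 103 (.node 117 (.node 200 (.node 264 .nil .nil) .nil) (.node 145 .nil .nil)) (.node 58 (.node 223 .nil .nil) (.node 173 .nil .nil)))) (.node 60 (.node 20 (.node 146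 (.node 72 (.node 211 .nil .nil) .nil) (.node 206 .nil .nil)) (.node 54 (.node 201 .nil .nil) (.node 183 .nil .nil))) (.node 28 (.node 97 (.node 227 (.node 269 .nil .nil) .nil) (.node 196 .nil .nil)) (.node 63 (.node 129 .nil .nil) (.node 222 .nil .nil)))))) (.node 16 (.node 3 (.node 38 (.node 70 (.node 132 (.node 208 (.node 285 .nil .nil) .nil) (.node 144 .nil .nil)) (.node 122 (.node 86 .nil .nil) (.node 158 .nil .nil))) (.node 69 (.node 99 (.node 76 (.node 254 .nil .nil) .nil) (.node 167 .nil .nil)) (.node 57 (.node 248 .nil .nil) (.node 275 .nil .nil)))) (.node 56 (.node 87 (.node 35 (.node 218 (.node 243 .nil .nil) .nil) (.node 263 .nil .nil)) (.node 53 (.node 109 .nil .nil) (.node 159 .nil .nil))) (.node 116 (.node 100 (.node 95 (.node 267 .nil .nil) .nil) (.node 138 .nil .nil)) (.node 98 (.node 110 .nil .nil) (.node 261 .nil .nil))))) (.node 30 (.node 47 (.node 18 (.node 34 (.node 89 (.node 197 .nil .nil) .nil) (.node 260 .nil .nil)) (.node 161 (.node 93 .nil .nil) (.node 199 .nil .nil)))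 (.node 108 (.node 162 (.node 139 (.node 283 .nil .nil) .nil) (.node 163 .nil .nil)) (.node 126 (.node 253 .nil .nil) (.node 177 .nil .nil)))) (.node 14 (.node 94 (.node 115 (.node 73 (.node 279 .nil .nil) .nil) (.node 204 .nil .nil)) (.node 186 (.node 217 .nil .nil) (.node 213 .nil .nil))) (.node 96 (.node 46 (.node 226 (.node 287 .nil .nil) .nil) (.node 252 .nil .nil)) (.node 118 (.node 215 .nil .nil) (.node 274 .nil .nil))))))) (.node 10 (.node 1 (.node 21 (.node 37 (.node 23 (.node 128 (.node 188 (.node 191 .nil .nil) .nil) (.node 203 .nil .nil)) (.node 92 (.node 102 .nil .nil) (.node 231 .nil .nil))) (.node 40 (.node 157 (.node 212 (.node 265 .nil .nil) .nil) (.node 131 .nil .nil)) (.node 155 (.node 246 .nil .nil) (.node 168 .nil .nil)))) (.node 55 (.node 83 (.node 142 (.node 141 (.node 273 .nil .nil) .nil) (.node 172 .nil .nil)) (.node 91 (.node 133 .nil .nil) (.node 259 .nil .nil))) (.node 114 (.node 134 (.node 79 (.node 239 .nil .nil) .nil) (.node 174 .nil .nil)) (.node 64 (.node 143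 .nil .nil) (.node 247 .nil .nil))))) (.node 4 (.node 9 (.node 17 (.node 50 (.node 169 (.node 250 .nil .nil) .nil) (.node 262 .nil .nil)) (.node 120 (.node 135 .nil .nil) (.node 235 .nil .nil))) (.node 106 (.node 149 (.node 85 (.node 272 .nil .nil) .nil) (.node 238 .nil .nil)) (.node 84 (.node 176 .nil .nil) (.node 255 .nil .nil)))) (.node 61 (.node 48 (.node 147 (.node 137 (.node 284 .nil .nil) .nil) (.node 251 .nil .nil)) (.node 170 (.node 244 .nil .nil) (.node 256 .nil .nil))) (.node 29 (.node 166 (.node 81 (.node 258 .nil .nil) .nil) (.node 240 .nil .nil)) (.node 71 (.node 160 .nil .nil) (.node 182 .nil .nil)))))) (.node 12 (.node 27 (.node 8 (.node 74 (.node 32 (.node 209 (.node 233 .nil .nil) .nil) (.node 151 .nil .nil)) (.node 82 (.node 214 .nil .nil) (.node 156 .nil .nil))) (.node 24 (.node 41 (.node 77 (.node 242 .nil .nil) .nil) (.node 268 .nil .nil)) (.node 78 (.node 104 .nil .nil) (.node 266 .nil .nil)))) (.node 11 (.node 88 (.node 36 (.node 150 (.node 282 .nil .nil) .nil) (.node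 193 .nil .nil)) (.node 175 (.node 123 .nil .nil) (.node 229 .nil .nil))) (.node 119 (.node 105 (.node 113 (.node 278 .nil .nil) .nil) (.node 184 .nil .nil)) (.node 171 (.node 224 .nil .nil) (.node 205 .nil .nil))))) (.node 31 (.node 33 (.node 80 (.node 125 (.node 165 (.node 202 .nil .nil) .nil) (.node 230 .nil .nil)) (.node 52 (.node 210 .nil .nil) (.node 225 .nil .nil))) (.node 25 (.node 42 (.node 195 (.node 270 .nil .nil) .nil) (.node 190 .nil .nil)) (.node 59 (.node 236 .nil .nil) (.node 249 .nil .nil)))) (.node 15 (.node 22 (.node 153 (.node 185 (.node 216 .nil .nil) .nil) (.node 127 .nil .nil)) (.node 164 (.node 107 .nil .nil) (.node 281 .nil .nil))) (.node 124 (.node 154 (.node 234 (.node 286 .nil .nil) .nil) (.node 180 .nil .nil)) (.node 207 (.node 257 .nil .nil) (.node 245 .nil .nil))))))))) (.node 3 (.node 0 (.node 7 (.node 12 (.node 18 (.node 34 (.node 22 (.node 127 (.node 70 (.node 185 .nil .nil) .nil) (.node 132 .nil .nil)) (.node 47 (.node 85 .nil .nil) (.node 249 .nil .nil)))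 (.node 51 (.node 155 (.node 75 (.node 217 .nil .nil) .nil) (.node 265 .nil .nil)) (.node 191 (.node 103 .nil .nil) (.node 206 .nil .nil)))) (.node 10 (.node 82 (.node 139 (.node 119 (.node 274 .nil .nil) .nil) (.node 260 .nil .nil)) (.node 178 (.node 145 .nil .nil) (.node 156 .nil .nil))) (.node 111 (.node 157 (.node 79 (.node 271 .nil .nil) .nil) (.node 135 .nil .nil)) (.node 60 (.node 108 .nil .nil) (.node 262 .nil .nil))))) (.node 4 (.node 43 (.node 17 (.node 101 (.node 192 (.node 200 .nil .nil) .nil) (.node 117 .nil .nil)) (.node 81 (.node 116 .nil .nil) (.node 166 .nil .nil))) (.node 102 (.node 158 (.node 175 (.node 252 .nil .nil) .nil) (.node 214 .nil .nil)) (.node 164 (.node 170 .nil .nil) (.node 273 .nil .nil)))) (.node 59 (.node 90 (.node 39 (.node 91 (.node 241 .nil .nil) .nil) (.node 125 .nil .nil)) (.node 184 (.node 242 .nil .nil) (.node 222 .nil .nil))) (.node 120 (.node 130 (.node 232 (.node 255 .nil .nil) .nil) (.node 167 .nil .nil)) (.node 98 (.node 118 .nil .nil) (.node 276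 .nil .nil)))))) (.node 15 (.node 24 (.node 8 (.node 16 (.node 131 (.node 92 (.node 199 .nil .nil) .nil) (.node 147 .nil .nil)) (.node 124 (.node 237 .nil .nil) (.node 210 .nil .nil))) (.node 99 (.node 40 (.node 114 (.node 264 .nil .nil) .nil) (.node 226 .nil .nil)) (.node 146 (.node 104 .nil .nil) (.node 172 .nil .nil)))) (.node 11 (.node 86 (.node 109 (.node 177 (.node 287 .nil .nil) .nil) (.node 123 .nil .nil)) (.node 150 (.node 180 .nil .nil) (.node 246 .nil .nil))) (.node 27 (.node 44 (.node 203 (.node 243 .nil .nil) .nil) (.node 251 .nil .nil)) (.node 61 (.node 219 .nil .nil) (.node 179 .nil .nil))))) (.node 29 (.node 32 (.node 78 (.node 128 (.node 67 (.node 248 .nil .nil) .nil) (.node 253 .nil .nil)) (.node 52 (.node 228 .nil .nil) (.node 171 .nil .nil))) (.node 25 (.node 42 (.node 106 (.node 231 .nil .nil) .nil) (.node 212 .nil .nil)) (.node 188 (.node 107 .nil .nil) (.node 234 .nil .nil)))) (.node 63 (.node 93 (.node 38 (.node 223 (.node 267 .nil .nil) .nil) (.node 240 .nil .nil))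 (.node 55 (.node 239 .nil .nil) (.node 193 .nil .nil))) (.node 89 (.node 153 (.node 84 (.node 279 .nil .nil) .nil) (.node 236 .nil .nil)) (.node 189 (.node 151 .nil .nil) (.node 183 .nil .nil))))))) (.node 9 (.node 13 (.node 3 (.node 36 (.node 69 (.node 31 (.node 149 (.node 209 .nil .nil) .nil) (.node 238 .nil .nil)) (.node 173 (.node 235 .nil .nil) (.node 201 .nil .nil))) (.node 23 (.node 100 (.node 168 (.node 244 .nil .nil) .nil) (.node 257 .nil .nil)) (.node 57 (.node 138 .nil .nil) (.node 268 .nil .nil)))) (.node 54 (.node 19 (.node 35 (.node 71 (.node 208 .nil .nil) .nil) (.node 225 .nil .nil)) (.node 53 (.node 95 .nil .nil) (.node 277 .nil .nil))) (.node 113 (.node 62 (.node 94 (.node 259 .nil .nil) .nil) (.node 272 .nil .nil)) (.node 187 (.node 256 .nil .nil) (.node 224 .nil .nil))))) (.node 5 (.node 45 (.node 77 (.node 33 (.node 213 (.node 197 .nil .nil) .nil) (.node 261 .nil .nil)) (.node 68 (.node 227 .nil .nil) (.node 181 .nil .nil))) (.node 105 (.node 160 (.node 129 (.node 233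 .nil .nil) .nil) (.node 133 .nil .nil)) (.node 196 (.node 229 .nil .nil) (.node 195 .nil .nil)))) (.node 14 (.node 21 (.node 37 (.node 221 (.node 215 .nil .nil) .nil) (.node 159 .nil .nil)) (.node 74 (.node 97 .nil .nil) (.node 162 .nil .nil))) (.node 122 (.node 46 (.node 88 (.node 263 .nil .nil) .nil) (.node 141 .nil .nil)) (.node 204 (.node 126 .nil .nil) (.node 198 .nil .nil)))))) (.node 2 (.node 26 (.node 41 (.node 73 (.node 134 (.node 66 (.node 281 .nil .nil) .nil) (.node 245 .nil .nil)) (.node 50 (.node 211 .nil .nil) (.node 165 .nil .nil))) (.node 48 (.node 115 (.node 194 (.node 283 .nil .nil) .nil) (.node 163 .nil .nil)) (.node 83 (.node 250 .nil .nil) (.node 282 .nil .nil)))) (.node 58 (.node 20 (.node 144 (.node 72 (.node 270 .nil .nil) .nil) (.node 154 .nil .nil)) (.node 182 (.node 230 .nil .nil) (.node 161 .nil .nil))) (.node 28 (.node 140 (.node 80 (.node 275 .nil .nil) .nil) (.node 186 .nil .nil)) (.node 202 (.node 121 .nil .nil) (.node 218 .nil .nil))))) (.node 6 (.node 49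 (.node 76 (.node 137 (.node 216 (.node 285 .nil .nil) .nil) (.node 258 .nil .nil)) (.node 176 (.node 220 .nil .nil) (.node 278 .nil .nil))) (.node 110 (.node 143 (.node 190 (.node 286 .nil .nil) .nil) (.node 269 .nil .nil)) (.node 136 (.node 254 .nil .nil) (.node 207 .nil .nil)))) (.node 65 (.node 96 (.node 152 (.node 87 (.node 280 .nil .nil) .nil) (.node 247 .nil .nil)) (.node 56 (.node 148 .nil .nil) (.node 174 .nil .nil))) (.node 30 (.node 169 (.node 205 (.node 266 .nil .nil) .nil) (.node 142 .nil .nil)) (.node 64 (.node 112 .nil .nil) (.node 284 .nil .nil)))))))) (.node 6 (.node 8 (.node 14 (.node 2 (.node 27 (.node 15 (.node 87 (.node 81 (.node 197 .nil .nil) .nil) (.node 114 .nil .nil)) (.node 171 (.node 144 .nil .nil) (.node 169 .nil .nil))) (.node 98 (.node 153 (.node 160 (.node 287 .nil .nil) .nil) (.node 266 .nil .nil)) (.node 56 (.node 175 .nil .nil) (.node 191 .nil .nil)))) (.node 52 (.node 69 (.node 141 (.node 139 (.node 275 .nil .nil) .nil) (.node 120 .nil .nil)) (.node 180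 (.node 235 .nil .nil) (.node 269 .nil .nil))) (.node 112 (.node 163 (.node 229 (.node 274 .nil .nil) .nil) (.node 265 .nil .nil)) (.node 200 (.node 159 .nil .nil) (.node 246 .nil .nil))))) (.node 20 (.node 12 (.node 76 (.node 115 (.node 67 (.node 204 .nil .nil) .nil) (.node 137 .nil .nil)) (.node 51 (.node 194 .nil .nil) (.node 241 .nil .nil))) (.node 24 (.node 41 (.node 77 (.node 283 .nil .nil) .nil) (.node 146 .nil .nil)) (.node 83 (.node 104 .nil .nil) (.node 183 .nil .nil)))) (.node 13 (.node 37 (.node 36 (.node 220 (.node 263 .nil .nil) .nil) (.node 260 .nil .nil)) (.node 154 (.node 243 .nil .nil) (.node 255 .nil .nil))) (.node 30 (.node 165 (.node 233 (.node 254 .nil .nil) .nil) (.node 140 .nil .nil)) (.node 70 (.node 157 .nil .nil) (.node 271 .nil .nil)))))) (.node 1 (.node 19 (.node 39 (.node 71 (.node 31 (.node 201 (.node 221 .nil .nil) .nil) (.node 164 .nil .nil)) (.node 48 (.node 238 .nil .nil) (.node 149 .nil .nil))) (.node 23 (.node 99 (.node 212 (.node 280 .nil .nil) .nil) (.node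 131 .nil .nil)) (.node 192 (.node 249 .nil .nil) (.node 278 .nil .nil)))) (.node 57 (.node 35 (.node 121 (.node 219 (.node 208 .nil .nil) .nil) (.node 182 .nil .nil)) (.node 181 (.node 95 .nil .nil) (.node 218 .nil .nil))) (.node 117 (.node 103 (.node 108 (.node 286 .nil .nil) .nil) (.node 234 .nil .nil)) (.node 105 (.node 133 .nil .nil) (.node 262 .nil .nil))))) (.node 4 (.node 9 (.node 79 (.node 124 (.node 214 (.node 250 .nil .nil) .nil) (.node 118 .nil .nil)) (.node 158 (.node 209 .nil .nil) (.node 155 .nil .nil))) (.node 109 (.node 127 (.node 78 (.node 242 .nil .nil) .nil) (.node 134 .nil .nil)) (.node 198 (.node 202 .nil .nil) (.node 248 .nil .nil)))) (.node 60 (.node 21 (.node 150 (.node 203 (.node 215 .nil .nil) .nil) (.node 126 .nil .nil)) (.node 187 (.node 97 .nil .nil) (.node 162 .nil .nil))) (.node 29 (.node 47 (.node 102 (.node 282 .nil .nil) .nil) (.node 273 .nil .nil)) (.node 206 (.node 225 .nil .nil) (.node 284 .nil .nil))))))) (.node 0 (.node 11 (.node 22 (.node 7 (.node 49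 (.node 129 (.node 65 (.node 285 .nil .nil) .nil) (.node 185 .nil .nil)) (.node 174 (.node 85 .nil .nil) (.node 190 .nil .nil))) (.node 33 (.node 128 (.node 75 (.node 222 .nil .nil) .nil) (.node 166 .nil .nil)) (.node 59 (.node 247 .nil .nil) (.node 228 .nil .nil)))) (.node 55 (.node 84 (.node 143 (.node 196 (.node 216 .nil .nil) .nil) (.node 130 .nil .nil)) (.node 122 (.node 224 .nil .nil) (.node 156 .nil .nil))) (.node 26 (.node 43 (.node 80 (.node 239 .nil .nil) .nil) (.node 135 .nil .nil)) (.node 74 (.node 193 .nil .nil) (.node 178 .nil .nil))))) (.node 28 (.node 46 (.node 44 (.node 40 (.node 186 (.node 237 .nil .nil) .nil) (.node 256 .nil .nil)) (.node 147 (.node 92 .nil .nil) (.node 152 .nil .nil))) (.node 107 (.node 161 (.node 226 (.node 267 .nil .nil) .nil) (.node 207 .nil .nil)) (.node 58 (.node 106 .nil .nil) (.node 173 .nil .nil)))) (.node 62 (.node 91 (.node 148 (.node 72 (.node 232 .nil .nil) .nil) (.node 223 .nil .nil)) (.node 54 (.node 245 .nil .nil) (.node 261 .nil .nil)))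 (.node 123 (.node 167 (.node 188 (.node 257 .nil .nil) .nil) (.node 258 .nil .nil)) (.node 63 (.node 111 .nil .nil) (.node 211 .nil .nil)))))) (.node 17 (.node 5 (.node 10 (.node 42 (.node 132 (.node 210 (.node 195 .nil .nil) .nil) (.node 259 .nil .nil)) (.node 82 (.node 88 .nil .nil) (.node 151 .nil .nil))) (.node 100 (.node 116 (.node 101 (.node 264 .nil .nil) .nil) (.node 253 .nil .nil)) (.node 68 (.node 251 .nil .nil) (.node 172 .nil .nil)))) (.node 16 (.node 89 (.node 145 (.node 136 (.node 277 .nil .nil) .nil) (.node 142 .nil .nil)) (.node 53 (.node 96 .nil .nil) (.node 168 .nil .nil))) (.node 113 (.node 45 (.node 230 (.node 276 .nil .nil) .nil) (.node 138 .nil .nil)) (.node 61 (.node 110 .nil .nil) (.node 179 .nil .nil))))) (.node 32 (.node 50 (.node 18 (.node 34 (.node 217 (.node 268 .nil .nil) .nil) (.node 119 .nil .nil)) (.node 90 (.node 93 .nil .nil) (.node 279 .nil .nil))) (.node 25 (.node 64 (.node 227 (.node 231 .nil .nil) .nil) (.node 270 .nil .nil)) (.node 199 (.node 244 .nil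 .nil) (.node 177 .nil .nil)))) (.node 66 (.node 94 (.node 38 (.node 73 (.node 252 .nil .nil) .nil) (.node 213 .nil .nil)) (.node 189 (.node 176 .nil .nil) (.node 281 .nil .nil))) (.node 125 (.node 170 (.node 184 (.node 272 .nil .nil) .nil) (.node 205 .nil .nil)) (.node 86 (.node 240 .nil .nil) (.node 236 .nil .nil)))))))))) (.node 2 (.node 3 (.node 0 (.node 7 (.node 12 (.node 18 (.node 34 (.node 22 (.node 127 (.node 70 (.node 185 .nil .nil) .nil) (.node 132 .nil .nil)) (.node 47 (.node 85 .nil .nil) (.node 249 .nil .nil))) (.node 51 (.node 155 (.node 75 (.node 217 .nil .nil) .nil) (.node 265 .nil .nil)) (.node 191 (.node 103 .nil .nil) (.node 206 .nil .nil)))) (.node 10 (.node 82 (.node 139 (.node 119 (.node 274 .nil .nil) .nil) (.node 260 .nil .nil)) (.node 178 (.node 145 .nil .nil) (.node 156 .nil .nil))) (.node 111 (.node 157 (.node 79 (.node 271 .nil .nil) .nil) (.node 135 .nil .nil)) (.node 60 (.node 108 .nil .nil) (.node 262 .nil .nil))))) (.node 4 (.node 43 (.node 17 (.node 101 (.node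 192 (.node 200 .nil .nil) .nil) (.node 117 .nil .nil)) (.node 81 (.node 116 .nil .nil) (.node 166 .nil .nil))) (.node 102 (.node 158 (.node 175 (.node 252 .nil .nil) .nil) (.node 214 .nil .nil)) (.node 164 (.node 170 .nil .nil) (.node 273 .nil .nil)))) (.node 59 (.node 90 (.node 39 (.node 91 (.node 241 .nil .nil) .nil) (.node 125 .nil .nil)) (.node 184 (.node 242 .nil .nil) (.node 222 .nil .nil))) (.node 120 (.node 130 (.node 232 (.node 255 .nil .nil) .nil) (.node 167 .nil .nil)) (.node 98 (.node 118 .nil .nil) (.node 276 .nil .nil)))))) (.node 15 (.node 24 (.node 8 (.node 16 (.node 131 (.node 92 (.node 199 .nil .nil) .nil) (.node 147 .nil .nil)) (.node 124 (.node 237 .nil .nil) (.node 210 .nil .nil))) (.node 99 (.node 40 (.node 114 (.node 264 .nil .nil) .nil) (.node 226 .nil .nil)) (.node 146 (.node 104 .nil .nil) (.node 172 .nil .nil)))) (.node 11 (.node 86 (.node 109 (.node 177 (.node 287 .nil .nil) .nil) (.node 123 .nil .nil)) (.node 150 (.node 180 .nil .nil) (.node 246 .nil .nil))) (.node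 27 (.node 44 (.node 203 (.node 243 .nil .nil) .nil) (.node 251 .nil .nil)) (.node 61 (.node 219 .nil .nil) (.node 179 .nil .nil))))) (.node 29 (.node 32 (.node 78 (.node 128 (.node 67 (.node 248 .nil .nil) .nil) (.node 253 .nil .nil)) (.node 52 (.node 228 .nil .nil) (.node 171 .nil .nil))) (.node 25 (.node 42 (.node 106 (.node 231 .nil .nil) .nil) (.node 212 .nil .nil)) (.node 188 (.node 107 .nil .nil) (.node 234 .nil .nil)))) (.node 63 (.node 93 (.node 38 (.node 223 (.node 267 .nil .nil) .nil) (.node 240 .nil .nil)) (.node 55 (.node 239 .nil .nil) (.node 193 .nil .nil))) (.node 89 (.node 153 (.node 84 (.node 279 .nil .nil) .nil) (.node 236 .nil .nil)) (.node 189 (.node 151 .nil .nil) (.node 183 .nil .nil))))))) (.node 9 (.node 13 (.node 3 (.node 36 (.node 69 (.node 31 (.node 149 (.node 209 .nil .nil) .nil) (.node 238 .nil .nil)) (.node 173 (.node 235 .nil .nil) (.node 201 .nil .nil))) (.node 23 (.node 100 (.node 168 (.node 244 .nil .nil) .nil) (.node 257 .nil .nil)) (.node 57 (.node 138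 .nil .nil) (.node 268 .nil .nil)))) (.node 54 (.node 19 (.node 35 (.node 71 (.node 208 .nil .nil) .nil) (.node 225 .nil .nil)) (.node 53 (.node 95 .nil .nil) (.node 277 .nil .nil))) (.node 113 (.node 62 (.node 94 (.node 259 .nil .nil) .nil) (.node 272 .nil .nil)) (.node 187 (.node 256 .nil .nil) (.node 224 .nil .nil))))) (.node 5 (.node 45 (.node 77 (.node 33 (.node 213 (.node 197 .nil .nil) .nil) (.node 261 .nil .nil)) (.node 68 (.node 227 .nil .nil) (.node 181 .nil .nil))) (.node 105 (.node 160 (.node 129 (.node 233 .nil .nil) .nil) (.node 133 .nil .nil)) (.node 196 (.node 229 .nil .nil) (.node 195 .nil .nil)))) (.node 14 (.node 21 (.node 37 (.node 221 (.node 215 .nil .nil) .nil) (.node 159 .nil .nil)) (.node 74 (.node 97 .nil .nil) (.node 162 .nil .nil))) (.node 122 (.node 46 (.node 88 (.node 263 .nil .nil) .nil) (.node 141 .nil .nil)) (.node 204 (.node 126 .nil .nil) (.node 198 .nil .nil)))))) (.node 2 (.node 26 (.node 41 (.node 73 (.node 134 (.node 66 (.node 281 .nil .nil) .nil) (.node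 245 .nil .nil)) (.node 50 (.node 211 .nil .nil) (.node 165 .nil .nil))) (.node 48 (.node 115 (.node 194 (.node 283 .nil .nil) .nil) (.node 163 .nil .nil)) (.node 83 (.node 250 .nil .nil) (.node 282 .nil .nil)))) (.node 58 (.node 20 (.node 144 (.node 72 (.node 270 .nil .nil) .nil) (.node 154 .nil .nil)) (.node 182 (.node 230 .nil .nil) (.node 161 .nil .nil))) (.node 28 (.node 140 (.node 80 (.node 275 .nil .nil) .nil) (.node 186 .nil .nil)) (.node 202 (.node 121 .nil .nil) (.node 218 .nil .nil))))) (.node 6 (.node 49 (.node 76 (.node 137 (.node 216 (.node 285 .nil .nil) .nil) (.node 258 .nil .nil)) (.node 176 (.node 220 .nil .nil) (.node 278 .nil .nil))) (.node 110 (.node 143 (.node 190 (.node 286 .nil .nil) .nil) (.node 269 .nil .nil)) (.node 136 (.node 254 .nil .nil) (.node 207 .nil .nil)))) (.node 65 (.node 96 (.node 152 (.node 87 (.node 280 .nil .nil) .nil) (.node 247 .nil .nil)) (.node 56 (.node 148 .nil .nil) (.node 174 .nil .nil))) (.node 30 (.node 169 (.node 205 (.node 266 .nil .nil)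 .nil) (.node 142 .nil .nil)) (.node 64 (.node 112 .nil .nil) (.node 284 .nil .nil)))))))) (.node 6 (.node 8 (.node 14 (.node 2 (.node 27 (.node 15 (.node 87 (.node 81 (.node 197 .nil .nil) .nil) (.node 114 .nil .nil)) (.node 171 (.node 144 .nil .nil) (.node 169 .nil .nil))) (.node 98 (.node 153 (.node 160 (.node 287 .nil .nil) .nil) (.node 266 .nil .nil)) (.node 56 (.node 175 .nil .nil) (.node 191 .nil .nil)))) (.node 52 (.node 69 (.node 141 (.node 139 (.node 275 .nil .nil) .nil) (.node 120 .nil .nil)) (.node 180 (.node 235 .nil .nil) (.node 269 .nil .nil))) (.node 112 (.node 163 (.node 229 (.node 274 .nil .nil) .nil) (.node 265 .nil .nil)) (.node 200 (.node 159 .nil .nil) (.node 246 .nil .nil))))) (.node 20 (.node 12 (.node 76 (.node 115 (.node 67 (.node 204 .nil .nil) .nil) (.node 137 .nil .nil)) (.node 51 (.node 194 .nil .nil) (.node 241 .nil .nil))) (.node 24 (.node 41 (.node 77 (.node 283 .nil .nil) .nil) (.node 146 .nil .nil)) (.node 83 (.node 104 .nil .nil) (.node 183 .nil .nil))))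 (.node 13 (.node 37 (.node 36 (.node 220 (.node 263 .nil .nil) .nil) (.node 260 .nil .nil)) (.node 154 (.node 243 .nil .nil) (.node 255 .nil .nil))) (.node 30 (.node 165 (.node 233 (.node 254 .nil .nil) .nil) (.node 140 .nil .nil)) (.node 70 (.node 157 .nil .nil) (.node 271 .nil .nil)))))) (.node 1 (.node 19 (.node 39 (.node 71 (.node 31 (.node 201 (.node 221 .nil .nil) .nil) (.node 164 .nil .nil)) (.node 48 (.node 238 .nil .nil) (.node 149 .nil .nil))) (.node 23 (.node 99 (.node 212 (.node 280 .nil .nil) .nil) (.node 131 .nil .nil)) (.node 192 (.node 249 .nil .nil) (.node 278 .nil .nil)))) (.node 57 (.node 35 (.node 121 (.node 219 (.node 208 .nil .nil) .nil) (.node 182 .nil .nil)) (.node 181 (.node 95 .nil .nil) (.node 218 .nil .nil))) (.node 117 (.node 103 (.node 108 (.node 286 .nil .nil) .nil) (.node 234 .nil .nil)) (.node 105 (.node 133 .nil .nil) (.node 262 .nil .nil))))) (.node 4 (.node 9 (.node 79 (.node 124 (.node 214 (.node 250 .nil .nil) .nil) (.node 118 .nil .nil)) (.node 158 (.node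 209 .nil .nil) (.node 155 .nil .nil))) (.node 109 (.node 127 (.node 78 (.node 242 .nil .nil) .nil) (.node 134 .nil .nil)) (.node 198 (.node 202 .nil .nil) (.node 248 .nil .nil)))) (.node 60 (.node 21 (.node 150 (.node 203 (.node 215 .nil .nil) .nil) (.node 126 .nil .nil)) (.node 187 (.node 97 .nil .nil) (.node 162 .nil .nil))) (.node 29 (.node 47 (.node 102 (.node 282 .nil .nil) .nil) (.node 273 .nil .nil)) (.node 206 (.node 225 .nil .nil) (.node 284 .nil .nil))))))) (.node 0 (.node 11 (.node 22 (.node 7 (.node 49 (.node 129 (.node 65 (.node 285 .nil .nil) .nil) (.node 185 .nil .nil)) (.node 174 (.node 85 .nil .nil) (.node 190 .nil .nil))) (.node 33 (.node 128 (.node 75 (.node 222 .nil .nil) .nil) (.node 166 .nil .nil)) (.node 59 (.node 247 .nil .nil) (.node 228 .nil .nil)))) (.node 55 (.node 84 (.node 143 (.node 196 (.node 216 .nil .nil) .nil) (.node 130 .nil .nil)) (.node 122 (.node 224 .nil .nil) (.node 156 .nil .nil))) (.node 26 (.node 43 (.node 80 (.node 239 .nil .nil) .nil) (.node 135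 .nil .nil)) (.node 74 (.node 193 .nil .nil) (.node 178 .nil .nil))))) (.node 28 (.node 46 (.node 44 (.node 40 (.node 186 (.node 237 .nil .nil) .nil) (.node 256 .nil .nil)) (.node 147 (.node 92 .nil .nil) (.node 152 .nil .nil))) (.node 107 (.node 161 (.node 226 (.node 267 .nil .nil) .nil) (.node 207 .nil .nil)) (.node 58 (.node 106 .nil .nil) (.node 173 .nil .nil)))) (.node 62 (.node 91 (.node 148 (.node 72 (.node 232 .nil .nil) .nil) (.node 223 .nil .nil)) (.node 54 (.node 245 .nil .nil) (.node 261 .nil .nil))) (.node 123 (.node 167 (.node 188 (.node 257 .nil .nil) .nil) (.node 258 .nil .nil)) (.node 63 (.node 111 .nil .nil) (.node 211 .nil .nil)))))) (.node 17 (.node 5 (.node 10 (.node 42 (.node 132 (.node 210 (.node 195 .nil .nil) .nil) (.node 259 .nil .nil)) (.node 82 (.node 88 .nil .nil) (.node 151 .nil .nil))) (.node 100 (.node 116 (.node 101 (.node 264 .nil .nil) .nil) (.node 253 .nil .nil)) (.node 68 (.node 251 .nil .nil) (.node 172 .nil .nil)))) (.node 16 (.node 89 (.node 145 (.node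 136 (.node 277 .nil .nil) .nil) (.node 142 .nil .nil)) (.node 53 (.node 96 .nil .nil) (.node 168 .nil .nil))) (.node 113 (.node 45 (.node 230 (.node 276 .nil .nil) .nil) (.node 138 .nil .nil)) (.node 61 (.node 110 .nil .nil) (.node 179 .nil .nil))))) (.node 32 (.node 50 (.node 18 (.node 34 (.node 217 (.node 268 .nil .nil) .nil) (.node 119 .nil .nil)) (.node 90 (.node 93 .nil .nil) (.node 279 .nil .nil))) (.node 25 (.node 64 (.node 227 (.node 231 .nil .nil) .nil) (.node 270 .nil .nil)) (.node 199 (.node 244 .nil .nil) (.node 177 .nil .nil)))) (.node 66 (.node 94 (.node 38 (.node 73 (.node 252 .nil .nil) .nil) (.node 213 .nil .nil)) (.node 189 (.node 176 .nil .nil) (.node 281 .nil .nil))) (.node 125 (.node 170 (.node 184 (.node 272 .nil .nil) .nil) (.node 205 .nil .nil)) (.node 86 (.node 240 .nil .nil) (.node 236 .nil .nil))))))))) (.node 4 (.node 5 (.node 0 (.node 13 (.node 19 (.node 6 (.node 67 (.node 121 (.node 65 (.node 237 .nil .nil) .nil) (.node 112 .nil .nil)) (.node 62 (.node 189 .nil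 .nil) (.node 187 .nil .nil))) (.node 45 (.node 39 (.node 194 (.node 277 .nil .nil) .nil) (.node 130 .nil .nil)) (.node 192 (.node 181 .nil .nil) (.node 221 .nil .nil)))) (.node 51 (.node 49 (.node 140 (.node 68 (.node 276 .nil .nil) .nil) (.node 148 .nil .nil)) (.node 179 (.node 241 .nil .nil) (.node 280 .nil .nil))) (.node 26 (.node 43 (.node 228 (.node 232 .nil .nil) .nil) (.node 271 .nil .nil)) (.node 101 (.node 219 .nil .nil) (.node 178 .nil .nil))))) (.node 7 (.node 44 (.node 75 (.node 136 (.node 66 (.node 198 .nil .nil) .nil) (.node 220 .nil .nil)) (.node 90 (.node 111 .nil .nil) (.node 152 .nil .nil))) (.node 103 (.node 117 (.node 200 (.node 264 .nil .nil) .nil) (.node 145 .nil .nil)) (.node 58 (.node 223 .nil .nil) (.node 173 .nil .nil)))) (.node 60 (.node 20 (.node 146 (.node 72 (.node 211 .nil .nil) .nil) (.node 206 .nil .nil)) (.node 54 (.node 201 .nil .nil) (.node 183 .nil .nil))) (.node 28 (.node 97 (.node 227 (.node 269 .nil .nil) .nil) (.node 196 .nil .nil)) (.node 63 (.node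 129 .nil .nil) (.node 222 .nil .nil)))))) (.node 16 (.node 3 (.node 38 (.node 70 (.node 132 (.node 208 (.node 285 .nil .nil) .nil) (.node 144 .nil .nil)) (.node 122 (.node 86 .nil .nil) (.node 158 .nil .nil))) (.node 69 (.node 99 (.node 76 (.node 254 .nil .nil) .nil) (.node 167 .nil .nil)) (.node 57 (.node 248 .nil .nil) (.node 275 .nil .nil)))) (.node 56 (.node 87 (.node 35 (.node 218 (.node 243 .nil .nil) .nil) (.node 263 .nil .nil)) (.node 53 (.node 109 .nil .nil) (.node 159 .nil .nil))) (.node 116 (.node 100 (.node 95 (.node 267 .nil .nil) .nil) (.node 138 .nil .nil)) (.node 98 (.node 110 .nil .nil) (.node 261 .nil .nil))))) (.node 30 (.node 47 (.node 18 (.node 34 (.node 89 (.node 197 .nil .nil) .nil) (.node 260 .nil .nil)) (.node 161 (.node 93 .nil .nil) (.node 199 .nil .nil))) (.node 108 (.node 162 (.node 139 (.node 283 .nil .nil) .nil) (.node 163 .nil .nil)) (.node 126 (.node 253 .nil .nil) (.node 177 .nil .nil)))) (.node 14 (.node 94 (.node 115 (.node 73 (.node 279 .nil .nil) .nil)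 (.node 204 .nil .nil)) (.node 186 (.node 217 .nil .nil) (.node 213 .nil .nil))) (.node 96 (.node 46 (.node 226 (.node 287 .nil .nil) .nil) (.node 252 .nil .nil)) (.node 118 (.node 215 .nil .nil) (.node 274 .nil .nil))))))) (.node 10 (.node 1 (.node 21 (.node 37 (.node 23 (.node 128 (.node 188 (.node 191 .nil .nil) .nil) (.node 203 .nil .nil)) (.node 92 (.node 102 .nil .nil) (.node 231 .nil .nil))) (.node 40 (.node 157 (.node 212 (.node 265 .nil .nil) .nil) (.node 131 .nil .nil)) (.node 155 (.node 246 .nil .nil) (.node 168 .nil .nil)))) (.node 55 (.node 83 (.node 142 (.node 141 (.node 273 .nil .nil) .nil) (.node 172 .nil .nil)) (.node 91 (.node 133 .nil .nil) (.node 259 .nil .nil))) (.node 114 (.node 134 (.node 79 (.node 239 .nil .nil) .nil) (.node 174 .nil .nil)) (.node 64 (.node 143 .nil .nil) (.node 247 .nil .nil))))) (.node 4 (.node 9 (.node 17 (.node 50 (.node 169 (.node 250 .nil .nil) .nil) (.node 262 .nil .nil)) (.node 120 (.node 135 .nil .nil) (.node 235 .nil .nil))) (.node 106 (.node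 149 (.node 85 (.node 272 .nil .nil) .nil) (.node 238 .nil .nil)) (.node 84 (.node 176 .nil .nil) (.node 255 .nil .nil)))) (.node 61 (.node 48 (.node 147 (.node 137 (.node 284 .nil .nil) .nil) (.node 251 .nil .nil)) (.node 170 (.node 244 .nil .nil) (.node 256 .nil .nil))) (.node 29 (.node 166 (.node 81 (.node 258 .nil .nil) .nil) (.node 240 .nil .nil)) (.node 71 (.node 160 .nil .nil) (.node 182 .nil .nil)))))) (.node 12 (.node 27 (.node 8 (.node 74 (.node 32 (.node 209 (.node 233 .nil .nil) .nil) (.node 151 .nil .nil)) (.node 82 (.node 214 .nil .nil) (.node 156 .nil .nil))) (.node 24 (.node 41 (.node 77 (.node 242 .nil .nil) .nil) (.node 268 .nil .nil)) (.node 78 (.node 104 .nil .nil) (.node 266 .nil .nil)))) (.node 11 (.node 88 (.node 36 (.node 150 (.node 282 .nil .nil) .nil) (.node 193 .nil .nil)) (.node 175 (.node 123 .nil .nil) (.node 229 .nil .nil))) (.node 119 (.node 105 (.node 113 (.node 278 .nil .nil) .nil) (.node 184 .nil .nil)) (.node 171 (.node 224 .nil .nil) (.node 205 .nil .nil)))))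 (.node 31 (.node 33 (.node 80 (.node 125 (.node 165 (.node 202 .nil .nil) .nil) (.node 230 .nil .nil)) (.node 52 (.node 210 .nil .nil) (.node 225 .nil .nil))) (.node 25 (.node 42 (.node 195 (.node 270 .nil .nil) .nil) (.node 190 .nil .nil)) (.node 59 (.node 236 .nil .nil) (.node 249 .nil .nil)))) (.node 15 (.node 22 (.node 153 (.node 185 (.node 216 .nil .nil) .nil) (.node 127 .nil .nil)) (.node 164 (.node 107 .nil .nil) (.node 281 .nil .nil))) (.node 124 (.node 154 (.node 234 (.node 286 .nil .nil) .nil) (.node 180 .nil .nil)) (.node 207 (.node 257 .nil .nil) (.node 245 .nil .nil)))))))) (.node 2 (.node 1 (.node 0 (.node 20 (.node 35 (.node 68 (.node 30 (.node 76 (.node 284 .nil .nil) .nil) (.node 171 .nil .nil)) (.node 172 (.node 86 .nil .nil) (.node 142 .nil .nil))) (.node 22 (.node 156 (.node 225 (.node 263 .nil .nil) .nil) (.node 146 .nil .nil)) (.node 193 (.node 137 .nil .nil) (.node 167 .nil .nil)))) (.node 53 (.node 18 (.node 34 (.node 165 (.node 206 .nil .nil) .nil) (.node 261 .nil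 .nil)) (.node 52 (.node 93 .nil .nil) (.node 278 .nil .nil))) (.node 38 (.node 119 (.node 202 (.node 247 .nil .nil) .nil) (.node 269 .nil .nil)) (.node 106 (.node 255 .nil .nil) (.node 250 .nil .nil))))) (.node 7 (.node 8 (.node 69 (.node 32 (.node 212 (.node 196 .nil .nil) .nil) (.node 260 .nil .nil)) (.node 70 (.node 89 .nil .nil) (.node 277 .nil .nil))) (.node 104 (.node 159 (.node 178 (.node 226 .nil .nil) .nil) (.node 132 .nil .nil)) (.node 124 (.node 244 .nil .nil) (.node 180 .nil .nil)))) (.node 14 (.node 87 (.node 128 (.node 90 (.node 282 .nil .nil) .nil) (.node 158 .nil .nil)) (.node 185 (.node 96 .nil .nil) (.node 161 .nil .nil))) (.node 121 (.node 45 (.node 80 (.node 256 .nil .nil) .nil) (.node 274 .nil .nil)) (.node 116 (.node 110 .nil .nil) (.node 181 .nil .nil)))))) (.node 17 (.node 25 (.node 40 (.node 72 (.node 133 (.node 65 (.node 191 .nil .nil) .nil) (.node 113 .nil .nil)) (.node 62 (.node 207 .nil .nil) (.node 276 .nil .nil))) (.node 29 (.node 43 (.node 208 (.node 220 .nil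 .nil) .nil) (.node 229 .nil .nil)) (.node 195 (.node 148 .nil .nil) (.node 173 .nil .nil)))) (.node 49 (.node 19 (.node 37 (.node 71 (.node 217 .nil .nil) .nil) (.node 152 .nil .nil)) (.node 120 (.node 186 .nil .nil) (.node 262 .nil .nil))) (.node 118 (.node 140 (.node 79 (.node 268 .nil .nil) .nil) (.node 251 .nil .nil)) (.node 201 (.node 170 .nil .nil) (.node 248 .nil .nil))))) (.node 28 (.node 48 (.node 56 (.node 100 (.node 215 (.node 234 .nil .nil) .nil) (.node 254 .nil .nil)) (.node 175 (.node 239 .nil .nil) (.node 214 .nil .nil))) (.node 105 (.node 160 (.node 187 (.node 232 .nil .nil) .nil) (.node 230 .nil .nil)) (.node 58 (.node 253 .nil .nil) (.node 179 .nil .nil)))) (.node 64 (.node 95 (.node 151 (.node 224 (.node 279 .nil .nil) .nil) (.node 264 .nil .nil)) (.node 188 (.node 233 .nil .nil) (.node 199 .nil .nil))) (.node 98 (.node 153 (.node 204 (.node 257 .nil .nil) .nil) (.node 141 .nil .nil)) (.node 63 (.node 111 .nil .nil) (.node 198 .nil .nil))))))) (.node 11 (.node 13 (.node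 23 (.node 6 (.node 15 (.node 130 (.node 109 (.node 286 .nil .nil) .nil) (.node 112 .nil .nil)) (.node 47 (.node 236 .nil .nil) (.node 144 .nil .nil))) (.node 26 (.node 39 (.node 169 (.node 219 .nil .nil) .nil) (.node 267 .nil .nil)) (.node 194 (.node 103 .nil .nil) (.node 281 .nil .nil)))) (.node 10 (.node 85 (.node 139 (.node 176 (.node 245 .nil .nil) .nil) (.node 122 .nil .nil)) (.node 54 (.node 145 .nil .nil) (.node 174 .nil .nil))) (.node 115 (.node 164 (.node 94 (.node 241 .nil .nil) .nil) (.node 266 .nil .nil)) (.node 60 (.node 108 .nil .nil) (.node 283 .nil .nil))))) (.node 5 (.node 31 (.node 74 (.node 36 (.node 66 (.node 200 .nil .nil) .nil) (.node 117 .nil .nil)) (.node 51 (.node 136 .nil .nil) (.node 210 .nil .nil))) (.node 24 (.node 41 (.node 77 (.node 228 .nil .nil) .nil) (.node 163 .nil .nil)) (.node 197 (.node 252 .nil .nil) (.node 265 .nil .nil)))) (.node 50 (.node 92 (.node 149 (.node 222 (.node 216 .nil .nil) .nil) (.node 125 .nil .nil)) (.node 129 (.node 242 .nil .nil) (.node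 271 .nil .nil))) (.node 75 (.node 168 (.node 227 (.node 287 .nil .nil) .nil) (.node 235 .nil .nil)) (.node 205 (.node 127 .nil .nil) (.node 182 .nil .nil)))))) (.node 12 (.node 3 (.node 42 (.node 16 (.node 135 (.node 211 (.node 243 .nil .nil) .nil) (.node 114 .nil .nil)) (.node 59 (.node 213 .nil .nil) (.node 157 .nil .nil))) (.node 101 (.node 147 (.node 83 (.node 223 .nil .nil) .nil) (.node 131 .nil .nil)) (.node 57 (.node 246 .nil .nil) (.node 259 .nil .nil)))) (.node 55 (.node 82 (.node 61 (.node 73 (.node 209 .nil .nil) .nil) (.node 123 .nil .nil)) (.node 183 (.node 192 .nil .nil) (.node 221 .nil .nil))) (.node 99 (.node 143 (.node 231 (.node 249 .nil .nil) .nil) (.node 273 .nil .nil)) (.node 203 (.node 150 .nil .nil) (.node 218 .nil .nil))))) (.node 33 (.node 9 (.node 81 (.node 138 (.node 67 (.node 272 .nil .nil) .nil) (.node 238 .nil .nil)) (.node 177 (.node 240 .nil .nil) (.node 155 .nil .nil))) (.node 27 (.node 44 (.node 78 (.node 270 .nil .nil) .nil) (.node 134 .nil .nil)) (.node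 88 (.node 107 .nil .nil) (.node 280 .nil .nil)))) (.node 21 (.node 97 (.node 154 (.node 91 (.node 237 .nil .nil) .nil) (.node 162 .nil .nil)) (.node 190 (.node 102 .nil .nil) (.node 166 .nil .nil))) (.node 126 (.node 46 (.node 84 (.node 285 .nil .nil) .nil) (.node 275 .nil .nil)) (.node 189 (.node 258 .nil .nil) (.node 184 .nil .nil)))))))))))
set_option maxRecDepth 1000000 in
/-- The tree: parents. -/
def parL : List ℕ := [0,0,0,0,0,1,1,2,2,3,3,3,4,4,4,6,6,6,8,8,8,9,9,9,10,10,11,11,13,14,14,15,15,15,16,16,17,17,18,18,18,19,19,20,20,21,21,22,22,23,23,24,24,24,25,25,26,26,27,28,28,29,29,30,30,31,31,32,32,33,34,34,34,35,35,36,36,37,38,38,39,39,40,41,41,41,42,42,43,43,44,45,45,46,46,46,47,47,48,50,51,51,52,52,52,53,53,53,54,54,55,56,56,57,57,57,58,58,58,59,60,60,61,61,63,63,63,64,65,65,65,66,66,66,67,67,68,71,71,72,72,72,73,73,75,75,76,77,77,77,78,78,79,79,79,80,80,81,84,84,85,85,86,88,89,92,93,93,93,95,95,96,96,97,97,102,103,103,104,104,104,106,107,107,108,108,110,110,110,111,111,112,112,112,113,114,117,117,118,119,120,122,123,123,125,125,126,127,130,131,131,131,132,133,134,134,135,135,138,138,140,141,141,142,142,144,149,151,152,152,155,155,156,156,159,161,161,162,162,166,167,168,172,172,173,173,177,177,178,178,179,179,181,182,183,184,185,191,191,195,196,197,197,202,206,208,208,209,211,215,215,216,217,219,220,223,226,228,231,231,232,239,243,249,254,257,257,266]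
set_option maxRecDepth 1000000 in
/-- The tree: letters. -/
def genL : List ℕ := [0,0,2,4,6,2,4,0,4,0,2,6,0,2,4,0,2,6,0,2,6,2,4,6,0,6,0,2,4,0,2,2,4,6,0,6,0,2,2,4,6,0,6,0,2,0,4,2,6,0,4,2,4,6,0,2,2,4,0,0,2,2,4,0,6,0,4,2,6,0,2,4,6,0,2,2,4,0,0,4,2,6,0,2,4,6,0,2,2,4,0,4,6,0,2,6,0,6,4,0,4,6,0,2,6,0,2,4,2,4,0,0,4,0,2,6,2,4,6,2,0,6,0,4,2,4,6,0,2,4,6,0,2,6,0,6,2,0,6,0,2,4,2,4,0,4,2,2,4,6,4,6,0,2,6,0,6,2,0,6,0,4,2,4,6,4,2,4,6,0,4,4,6,0,4,6,0,6,0,2,4,4,0,6,0,6,2,4,6,4,6,0,2,6,6,6,0,6,4,4,4,6,0,6,0,6,4,2,2,2,4,6,6,0,4,6,0,4,2,4,4,0,6,0,6,6,4,4,2,4,4,6,0,4,2,0,6,0,4,6,6,2,0,4,2,4,2,4,2,4,0,4,6,2,0,6,0,2,6,4,6,0,2,2,6,0,4,6,2,0,4,2,0,6,6,6,6,6,0,4,2,2,0,6,4,4,6,0]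

end Cfsg.Agent.Lib.KnownSimple.MultM.U33
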